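import Mathlib
import Cfsg.Agent.H212.U3.Five
import Cfsg.Agent.H212.U3.LSub_mg
set_option linter.all false

-- part: H212/U3/Arith
section
/-!
# The numbers of a subgroup of `SUG σ` of index at most `q³`
-/

set_option autoImplicit false

namespace Cfsg.Agent.H212.U3.Arith

open Subgroup MulAction
open Cfsg.Agent
open Cfsg.Agent.UThreeGen.MatGroup
open Cfsg.Agent.H212.U3.Model Cfsg.Agent.H212.U3.Sub Cfsg.Agent.H212.U3.Num Cfsg.Agent.H212.U3.Five

theorem sq_sub (q : ℕ) : q ^ 2 - 1 = (q + 1) * (q - 1) := by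
  have := Nat.sq_sub_sq q 1
  rwa [one_pow] at this

/-- from the index to the order of `H ∩ B` -/
theorem le_of_index {q n r : ℕ} (hq : 0 < q) (h : n * r = q ^ 3 * (q ^ 2 - 1)) (hn : n < q ^ 3 + 1) :
    q ^ 2 - 1 ≤ r := by
  have h1 : n * r ≤ q ^ 3 * r := Nat.mul_le_mul_right r (by omega)
  rw [h] at h1
  exact Nat.le_of_mul_le_mul_left h1 (by positivity)

variable {F : Type*} [Field F] [Fintype F] {q : ℕ} {σ : F →+* F} [hσ : Fact (∀ x, σ (σ x) = x)]

/-- `AR = 0` -/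
theorem case_one (hF : Fintype.card F = q ^ 2) (hs : ∀ x, σ x = x ^ q)
    (H : Subgroup (SUG σ)) (hlt : H.index < q ^ 3 + 1) (hz : Nat.card (ZR H) ≠ q)
    (hA : Nat.card (AR H) = 1) : Nat.card (ZR H) = 1 ∧ Nat.card (Lam H) = q ^ 2 - 1 := by
  have hq : 2 ≤ q := LieClassical.HermBasic.two_le hF
  obtain ⟨-, hn⟩ := setup hF hs H hlt
  have h1 := le_of_index (by omega) hn hlt
  rw [hA, one_mul] at h1
  have hLd : Nat.card (Lam H) ∣ q ^ 2 - 1 := by
    have := Subgroup.card_subgroup_dvd_card (Lam H)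
    rwa [card_units hF] at this
  have hq2 : 0 < q ^ 2 - 1 := by
    rw [sq_sub]
    exact Nat.mul_pos (by omega) (by omega)
  have hLle := Nat.le_of_dvd hq2 hLd
  obtain ⟨k, hk1, hk2, hk3⟩ := nrm_facts hF hs H
  obtain ⟨s, hs'⟩ := card_ZR_dvd hF hs H
  have hz1 : Nat.card (ZR H) = 1 := by
    by_contra hz1
    have hz0 : 0 < Nat.card (ZR H) := Nat.card_pos
    have hkpos : 0 < k := by
      rcases Nat.eq_zero_or_pos k with h | h
      · rw [h, zero_dvd_iff] at hk2
        omega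
      · exact h
    have hLe : Nat.card (Lam H) ≤ k * (q + 1) := Nat.le_of_dvd (by positivity) hk3
    generalize Nat.card (ZR H) = z at *
    generalize Nat.card (Lam H) = L at *
    have hs2 : 2 ≤ s := by
      rcases s with _ | _ | s
      · omega
      · omega
      · omega
    -- `k ∣ s - 1`
    have h2 : k ∣ s - 1 := by
      have e : q - 1 = s * (z - 1) + (s - 1) := by
        obtain ⟨z', rfl⟩ : ∃ z', z = z' + 1 := ⟨z - 1, by omega⟩
        obtain ⟨s', rfl⟩ : ∃ s', s = s' + 1 := ⟨s - 1, by omega⟩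
        rw [hs']
        simp only [Nat.add_sub_cancel]
        have : (z' + 1) * (s' + 1) = (s' + 1) * z' + s' + 1 := by ring
        omega
      rw [e] at hk2
      exact (Nat.dvd_add_right (hk1.mul_left s)).1 hk2
    have h3 : k ≤ s - 1 := Nat.le_of_dvd (by omega) h2
    have h4 : (q + 1) * (q - 1) ≤ (q + 1) * (z * k) := by
      rw [← sq_sub]
      calc q ^ 2 - 1 ≤ z * L := h1
        _ ≤ z * (k * (q + 1)) := Nat.mul_le_mul_left z hLe
        _ = (q + 1) * (z * k) := by ring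
    have h5 : q - 1 ≤ z * k := Nat.le_of_mul_le_mul_left h4 (by omega)
    have h6 : z * k ≤ z * (s - 1) := Nat.mul_le_mul_left z h3
    have h7 : z * (s - 1) + z = q := by
      rw [hs']
      obtain ⟨s', rfl⟩ : ∃ s', s = s' + 1 := ⟨s - 1, by omega⟩
      simp only [Nat.add_sub_cancel]
      ring
    omega
  refine ⟨hz1, ?_⟩
  rw [hz1, one_mul] at h1
  omega

/-- `ZR = 0` and `AR ≠ 0` -/
theorem case_two (hF : Fintype.card F = q ^ 2) (hs : ∀ x, σ x = x ^ q)
    (H : Subgroup (SUG σ)) (hlt : H.index < q ^ 3 + 1) (hz : Nat.card (ZR H) = 1)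
    (hA : Nat.card (AR H) ≠ 1) : (2 : F) ≠ 0 ∧ Nat.card (AR H) = q ∧ q % 3 = 2 ∧
      (Nat.card (Lam H) = 3 * (q - 1) ∨ 2 * Nat.card (Lam H) = 3 * (q - 1)) := by
  have hq : 2 ≤ q := LieClassical.HermBasic.two_le hF
  obtain ⟨-, hn⟩ := setup hF hs H hlt
  have h1 := le_of_index (by omega) hn hlt
  rw [hz, mul_one] at h1
  have hzz : ∀ b ∈ ZR H, b = 0 := by
    intro b hb
    rw [AddSubgroup.eq_bot_of_card_eq (ZR H) hz] at hb
    exact hb
  have h2 : (2 : F) ≠ 0 := by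
    intro h2
    apply hA
    have hb : AR H = ⊥ := by
      rw [AddSubgroup.eq_bot_iff_forall]
      intro a ha
      have h3 := hzz _ (sq_mem_ZR h2 ha)
      rw [mul_eq_zero, map_eq_zero, or_self] at h3
      exact h3
    rw [hb, AddSubgroup.card_bot]
  obtain ⟨h3, h4⟩ := AR_facts hF hs H hz hA
  obtain ⟨k, hk1, hk2, hk3⟩ := nu_facts H
  rw [← hk3] at h4
  have hinj : q % 3 ≠ 2 → Nat.card (Lam H) = k := by
    intro h5
    rw [hk3]
    exact (Subgroup.card_map_of_injective (nu_injective (σ := σ) hs h5)).symm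
  obtain ⟨s, hs'⟩ := h3
  have hr0 : 0 < Nat.card (AR H) := Nat.card_pos
  have hL0 : 0 < Nat.card (Lam H) := Nat.card_pos
  generalize Nat.card (AR H) = r at *
  generalize Nat.card (Lam H) = L at *
  have hr : r = q := by
    by_contra hr
    have hs2 : 2 ≤ s := by
      rcases s with _ | _ | s
      · omega
      · omega
      · omega
    have h5 : k ∣ s - 1 := by
      have e : q - 1 = s * (r - 1) + (s - 1) := by
        obtain ⟨r', rfl⟩ : ∃ z', r = z' + 1 := ⟨r - 1, by omega⟩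
        obtain ⟨s', rfl⟩ : ∃ s', s = s' + 1 := ⟨s - 1, by omega⟩
        rw [hs']
        simp only [Nat.add_sub_cancel]
        have : (r' + 1) * (s' + 1) = (s' + 1) * r' + s' + 1 := by ring
        omega
      rw [e] at h4
      exact (Nat.dvd_add_right (hk1.mul_left s)).1 h4
    have h6 : k ≤ s - 1 := Nat.le_of_dvd (by omega) h5
    have h7 : L ≤ 3 * (s - 1) := by omega
    have h8 : r * (s - 1) + r = q := by
      rw [hs']
      obtain ⟨s', rfl⟩ : ∃ s', s = s' + 1 := ⟨s - 1, by omega⟩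
      simp only [Nat.add_sub_cancel]
      ring
    have h9 : r * L ≤ 3 * (r * (s - 1)) := by
      calc r * L ≤ r * (3 * (s - 1)) := Nat.mul_le_mul_left r h7
        _ = 3 * (r * (s - 1)) := by ring
    have h10 : q ^ 2 - 1 ≤ 3 * (q - 2) := by omega
    have h11 : q ^ 2 ≤ 3 * q := by omega
    have h12 : q ≤ 3 := by nlinarith
    interval_cases q
    · omega
    · omega
  subst hr
  have h5 : r ≤ L := by
    by_contra h6
    have h7 : L ≤ r - 1 := by omega
    have h8 : r * L ≤ r * (r - 1) := Nat.mul_le_mul_left r h7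
    have h9 : r * (r - 1) + r = r ^ 2 := by
      obtain ⟨r', rfl⟩ : ∃ z', r = z' + 1 := ⟨r - 1, by omega⟩
      simp only [Nat.add_sub_cancel]
      ring
    omega
  obtain ⟨m, hm⟩ := h4
  have hk4 : k ≤ r - 1 := Nat.le_of_dvd (by omega) ⟨m, hm⟩
  have h6 : L = 3 * k := by
    rcases hk2 with h | h
    · omega
    · exact h
  refine ⟨h2, rfl, ?_, ?_⟩
  · by_contra h7
    have := hinj h7
    omega
  · have hm3 : m < 3 := by
      by_contra h7
      have : k * 3 ≤ k * m := Nat.mul_le_mul_left k (by omega)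
      omega
    have hm0 : 0 < m := by
      rcases Nat.eq_zero_or_pos m with h | h
      · rw [h, mul_zero] at hm
        omega
      · exact h
    interval_cases m
    · left; omega
    · right; omega

end Cfsg.Agent.H212.U3.Arith
end

-- part: H212/U3/CaseE
section
/-!
# The case `1 < |ZR H| < q`
-/

set_option autoImplicit false

namespace Cfsg.Agent.H212.U3.CaseE

open Subgroup MulAction
open Cfsg.Agent
open Cfsg.Agent.UThreeGen.MatGroup
open Cfsg.Agent.H212.U3.Model Cfsg.Agent.H212.U3.Sub Cfsg.Agent.H212.U3.Num Cfsg.Agent.H212.U3.LSub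
open Cfsg.Agent.HKS.EndU (tor tmat tor_val tor_mem act tor_emb ci wel_tor exists_tor tor_mem_center
  card_anti comm_of_a sne)

/-- A subgroup acting freely on an invariant finite set. -/
theorem free_dvd_set {G X : Type*} [Group G] [MulAction G X] (P : Subgroup G) [Finite P] (S : Set X)
    (hS : S.Finite) (hinv : ∀ u ∈ P, ∀ x ∈ S, u • x ∈ S) (hfree : ∀ u ∈ P, ∀ x ∈ S, u • x = x → u = 1) :
    Nat.card P ∣ S.ncard := by
  let _ : MulAction P S :=
    { smul := fun u x => ⟨u.1 • x.1, hinv u.1 u.2 x.1 x.2⟩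
      one_smul := fun x => Subtype.ext (one_smul G x.1)
      mul_smul := fun u v x => Subtype.ext (mul_smul u.1 v.1 x.1) }
  have : Finite S := hS
  have h := free_dvd (M := P) (S := S) (fun u x h => Subtype.ext (hfree u.1 u.2 x.1 x.2
    (congrArg Subtype.val h)))
  exact h

section

variable {F : Type*} [Field F] {σ : F →+* F} [hσ : Fact (∀ x, σ (σ x) = x)]

/-- the centre of the unipotent group -/
def ZU (σ : F →+* F) [Fact (∀ x, σ (σ x) = x)] : Subgroup (SUG σ) where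
  carrier := {g | ∃ x : HG σ, x.a = 0 ∧ emb σ x = g}
  one_mem' := ⟨1, rfl, map_one _⟩
  mul_mem' := by
    rintro _ _ ⟨x, hx, rfl⟩ ⟨y, hy, rfl⟩
    exact ⟨x * y, by rw [mul_a, hx, hy, add_zero], map_mul _ _ _⟩
  inv_mem' := by
    rintro _ ⟨x, hx, rfl⟩
    exact ⟨x⁻¹, by rw [inv_a, hx, neg_zero], map_inv _ _⟩

theorem mem_ZU {g : SUG σ} : g ∈ ZU σ ↔ ∃ x : HG σ, x.a = 0 ∧ emb σ x = g := Iff.rfl

theorem card_inf_ZU (H : Subgroup (SUG σ)) :
    Nat.card (H ⊓ ZU σ : Subgroup (SUG σ)) = Nat.card (ZR H) := by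
  symm
  refine Nat.card_congr (Equiv.ofBijective
    (fun b => ⟨emb σ ⟨0, b.1, by rw [ZR_trace b.2, zero_mul]⟩, ?_, _, rfl, rfl⟩) ⟨?_, ?_⟩)
  · obtain ⟨x, hx, hx0, hxb⟩ := b.2
    have : x = ⟨0, b.1, by rw [ZR_trace b.2, zero_mul]⟩ := by
      ext
      · exact hx0
      · exact hxb
    rw [← this]
    exact hx
  · intro b c h
    have h1 := emb_injective (congrArg Subtype.val h)
    exact Subtype.ext (congrArg HG.b h1)
  · rintro ⟨_, hgH, x, hx, rfl⟩
    refine ⟨⟨x.b, x, hgH, hx, rfl⟩, ?_⟩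
    apply Subtype.ext
    change emb σ _ = emb σ x
    congr 1
    ext
    · exact hx.symm
    · rfl

theorem conj_ZU {b : SUG σ} (hb : b ∈ borel σ) {g : SUG σ} (hg : g ∈ ZU σ) : b * g * b⁻¹ ∈ ZU σ := by
  obtain ⟨x, hx, rfl⟩ := hg
  obtain ⟨y, hy, hya, -⟩ := conj_emb hb x
  exact ⟨y, by rw [hya, hx, mul_zero], hy.symm⟩

/-- the base point -/
def x0 (σ : F →+* F) : SUG σ ⧸ borel σ := QuotientGroup.mk 1

omit hσ in
theorem smul_x0 {g : SUG σ} : g • x0 σ = x0 σ ↔ g ∈ borel σ := by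
  rw [← MulAction.mem_stabilizer_iff, x0, MulAction.stabilizer_quotient]

/-- a nontrivial unipotent element fixes only one point -/
theorem fix_unip {u : SUG σ} (hu : u ∈ (emb σ).range) (hu1 : u ≠ 1) {x : SUG σ ⧸ borel σ}
    (h : u • x = x) : x = x0 σ := by
  by_contra hx
  obtain ⟨s, hs, huniq⟩ := (data_SUG (σ := σ)).regular x x hx hx
  have h1 := huniq ⟨u, hu⟩ h
  have h2 := huniq 1 (one_smul _ _)
  rw [← h2] at h1
  exact hu1 (congrArg Subtype.val h1)

theorem ZU_le : ZU σ ≤ (emb σ).range := by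
  rintro _ ⟨x, -, rfl⟩
  exact ⟨x, rfl⟩

/-- the subgroups `H ∩ g Z g⁻¹` -/
theorem exists_P (H : Subgroup (SUG σ)) (hHB : ∀ g : SUG σ, ∃ h ∈ H, ∃ b ∈ borel σ, g = h * b)
    (g : SUG σ) : ∃ P : Subgroup (SUG σ), P ≤ H ∧ Nat.card P = Nat.card (ZR H) ∧
      (∀ u ∈ P, g⁻¹ * u * g ∈ ZU σ) ∧ ∀ u ∈ P, u ≠ 1 → ∀ x, u • x = x → x = g • x0 σ := by
  obtain ⟨h, hh, b, hb, rfl⟩ := hHB g
  refine ⟨(H ⊓ ZU σ).map (MulAut.conj h).toMonoidHom, ?_, ?_, ?_, ?_⟩
  · rintro _ ⟨u, ⟨hu, -⟩, rfl⟩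
    exact H.mul_mem (H.mul_mem hh hu) (H.inv_mem hh)
  · rw [Subgroup.card_map_of_injective (MulAut.conj h).injective, card_inf_ZU]
  · rintro _ ⟨u, ⟨-, hu⟩, rfl⟩
    have h1 := conj_ZU ((borel σ).inv_mem hb) hu
    have h2 : (h * b)⁻¹ * ((MulAut.conj h).toMonoidHom u) * (h * b) = b⁻¹ * u * b⁻¹⁻¹ := by
      change (h * b)⁻¹ * (h * u * h⁻¹) * (h * b) = _
      group
    rw [h2]
    exact h1
  · rintro _ ⟨u, ⟨-, hu⟩, rfl⟩ hu1 x hx
    have hx' : (h * u * h⁻¹) • x = x := hx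
    have h1 : u • (h⁻¹ • x) = h⁻¹ • x := by
      rw [eq_inv_smul_iff, smul_smul, smul_smul]
      exact hx'
    have h2 := fix_unip (ZU_le hu) (by
      rintro rfl
      apply hu1
      simp) h1
    have h3 : b • x0 σ = x0 σ := smul_x0.2 hb
    rw [mul_smul, h3, ← h2, smul_inv_smul]

variable {δ : F} (hδ : σ δ = -δ) (h0 : δ ≠ 0)

theorem ZU_le_range : ZU σ ≤ (jh hδ h0).range := by
  rintro _ ⟨x, hx, rfl⟩
  exact emb_mem_range hδ h0 hx

/-- `H ∩ L` is transitive on the `L`-orbit of the base point -/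
theorem trans (H : Subgroup (SUG σ)) [Finite H]
    (hHB : ∀ g : SUG σ, ∃ h ∈ H, ∃ b ∈ borel σ, g = h * b)
    (hz : Nat.card (ZR H) ≠ 1) {g : SUG σ} (hg : g ∈ (jh hδ h0).range) :
    ∃ m ∈ H ⊓ (jh hδ h0).range, m • x0 σ = g • x0 σ := by
  by_contra hcon
  push Not at hcon
  set M := H ⊓ (jh hδ h0).range with hM
  have : Finite M := Finite.Set.subset (H : Set (SUG σ)) (fun x hx => hx.1)
  let O : Set (SUG σ ⧸ borel σ) := {x | ∃ m ∈ M, m • x0 σ = x}
  have hO : O.Finite := by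
    have : O = (fun m : SUG σ => m • x0 σ) '' (M : Set (SUG σ)) := rfl
    rw [this]
    exact Set.Finite.image _ (Set.toFinite _)
  have hOinv : ∀ u ∈ M, ∀ x ∈ O, u • x ∈ O := by
    rintro u hu _ ⟨m, hm, rfl⟩
    exact ⟨u * m, M.mul_mem hu hm, mul_smul _ _ _⟩
  have hgO : g • x0 σ ∉ O := fun ⟨m, hm, h⟩ => hcon m hm h
  have h0O : x0 σ ∈ O := ⟨1, M.one_mem, one_smul _ _⟩
  -- first divisibility
  have key : ∀ k : SUG σ, k ∈ (jh hδ h0).range → Nat.card (ZR H) ∣ (O \ {k • x0 σ}).ncard := by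
    intro k hk
    obtain ⟨P, hPH, hPc, hPZ, hPf⟩ := exists_P H hHB k
    have hPM : P ≤ M := by
      intro u hu
      refine ⟨hPH hu, ?_⟩
      have h1 := ZU_le_range hδ h0 (hPZ u hu)
      have h2 : u = k * (k⁻¹ * u * k) * k⁻¹ := by group
      rw [h2]
      exact (jh hδ h0).range.mul_mem ((jh hδ h0).range.mul_mem hk h1) ((jh hδ h0).range.inv_mem hk)
    have : Finite P := Finite.Set.subset (H : Set (SUG σ)) (fun x hx => hPH hx)
    rw [← hPc]
    apply free_dvd_set P _ (hO.subset Set.sdiff_subset)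
    · rintro u hu x ⟨hx, hxk⟩
      refine ⟨hOinv u (hPM hu) x hx, ?_⟩
      intro h
      apply hxk
      by_cases hu1 : u = 1
      · rw [hu1, one_smul] at h
        exact h
      · have h1 : k⁻¹ * u * k ∈ borel σ := by
          obtain ⟨y, -, hy⟩ := hPZ u hu
          rw [← hy]
          exact emb_mem y
        have h2 : u • k • x0 σ = k • x0 σ := by
          have h3 := smul_x0.2 h1
          rw [mul_smul, mul_smul, inv_smul_eq_iff] at h3
          exact h3
        have h3 : u • x = u • k • x0 σ := by rw [h2]; exact h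
        exact smul_left_cancel u h3
    · rintro u hu x ⟨hx, hxk⟩ hux
      by_contra hu1
      exact hxk (hPf u hu hu1 x hux)
  have h1 := key g hg
  rw [Set.sdiff_singleton_eq_self hgO] at h1
  have h2 := key 1 (one_mem _)
  rw [one_smul] at h2
  have h3 := Set.ncard_sdiff_singleton_add_one h0O hO
  rw [← h3] at h1
  have h4 := (Nat.dvd_add_right h2).1 h1
  exact hz (Nat.dvd_one.1 h4)

/-- units of the fixed field -/
def FU (σ : F →+* F) : Subgroup Fˣ where
  carrier := {l | σ (l : F) = l}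
  one_mem' := by simp
  mul_mem' := by
    intro a b ha hb
    have ha' : σ (a : F) = a := ha
    have hb' : σ (b : F) = b := hb
    change σ ((a * b : Fˣ) : F) = ((a * b : Fˣ) : F)
    rw [Units.val_mul, map_mul, ha', hb']
  inv_mem' := by
    intro a ha
    have ha' : σ (a : F) = a := ha
    change σ ((a⁻¹ : Fˣ) : F) = ((a⁻¹ : Fˣ) : F)
    rw [Units.val_inv_eq_inv_val, map_inv₀, ha']

/-- the order of `M ∩ B` for `M ≤ L` -/
theorem card_inf_borel (M : Subgroup (SUG σ)) (hM : M ≤ (jh hδ h0).range) :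
    ∃ E : Subgroup Fˣ, E ≤ FU σ ∧
      Nat.card (M ⊓ borel σ : Subgroup (SUG σ)) = Nat.card (M ⊓ ZU σ : Subgroup (SUG σ)) * Nat.card E ∧
      ∀ l ∈ FU σ, tor σ l ∈ M → l ∈ E := by
  let f : (M ⊓ borel σ : Subgroup (SUG σ)) →* Fˣ :=
    (chi σ).comp (Subgroup.inclusion (inf_le_right : M ⊓ borel σ ≤ borel σ))
  refine ⟨f.range, ?_, ?_, ?_⟩
  · rintro _ ⟨g, rfl⟩
    exact (entries_of_range hδ h0 (hM g.2.1)).2.2.2.2.2
  · have h1 := f.ker.card_mul_index
    rw [Subgroup.index_ker] at h1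
    have h2 : Nat.card f.ker = Nat.card (M ⊓ ZU σ : Subgroup (SUG σ)) := by
      refine Nat.card_congr ⟨fun g => ⟨g.1.1, g.1.2.1, ?_⟩, fun g => ⟨⟨g.1, g.2.1, ?_⟩, ?_⟩, ?_, ?_⟩
      · have h3 : chi σ ⟨g.1.1, g.1.2.2⟩ = 1 := g.2
        obtain ⟨x, hx⟩ := chi_eq_one.1 h3
        have hx' : emb σ x = g.1.1 := hx
        refine ⟨x, a_eq_zero hδ h0 ?_, hx'⟩
        rw [hx']
        exact hM g.1.2.1
      · obtain ⟨x, -, hx⟩ := g.2.2
        rw [← hx]
        exact emb_mem x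
      · obtain ⟨x, -, hx⟩ := g.2.2
        have h4 : g.1 ∈ (emb σ).range := ⟨x, hx⟩
        exact chi_eq_one.2 h4
      · intro g; rfl
      · intro g; rfl
    rw [← h1, h2]
  · intro l hl hlM
    exact ⟨⟨tor σ l, hlM, tor_mem l⟩, chi_tor l⟩

omit hσ in
/-- orbit-stabiliser for the base point -/
theorem orbit_card (M : Subgroup (SUG σ)) :
    {x : SUG σ ⧸ borel σ | ∃ m ∈ M, m • x0 σ = x}.ncard *
      Nat.card (M ⊓ borel σ : Subgroup (SUG σ)) = Nat.card M := by
  have h1 : {x : SUG σ ⧸ borel σ | ∃ m ∈ M, m • x0 σ = x} = MulAction.orbit M (x0 σ) := by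
    ext x
    constructor
    · rintro ⟨m, hm, h⟩
      exact ⟨⟨m, hm⟩, h⟩
    · rintro ⟨m, h⟩
      exact ⟨m.1, m.2, h⟩
  have h2 : Nat.card (M ⊓ borel σ : Subgroup (SUG σ)) = Nat.card (MulAction.stabilizer M (x0 σ)) := by
    refine Nat.card_congr ⟨fun g => ⟨⟨g.1, g.2.1⟩, smul_x0.2 g.2.2⟩,
      fun g => ⟨g.1.1, g.1.2, smul_x0.1 g.2⟩, fun _ => rfl, fun _ => rfl⟩
  rw [h1, h2, ← MulAction.index_stabilizer]
  exact (MulAction.stabilizer M (x0 σ)).index_mul_card

end

section Fin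

variable {F : Type*} [Field F] [Fintype F] {q : ℕ} {σ : F →+* F} [hσ : Fact (∀ x, σ (σ x) = x)]
  {δ : F} (hδ : σ δ = -δ) (h0 : δ ≠ 0)

theorem card_FU (hF : Fintype.card F = q ^ 2) (hs : ∀ x, σ x = x ^ q) : Nat.card (FU σ) = q - 1 := by
  apply Nat.le_antisymm
  · have hq : 2 ≤ q := LieClassical.HermBasic.two_le hF
    have h1 : Nat.card (FU σ) ∣ Nat.card (fixd σ) - 1 := by
      apply units_dvd
      intro l hl a ha
      have hl' : σ (l : F) = l := hl
      have ha' : σ a = a := ha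
      change σ ((l : F) * a) = (l : F) * a
      rw [map_mul, hl', ha']
    rw [card_fixd hF hs] at h1
    exact Nat.le_of_dvd (by omega) h1
  · rw [← card_range_nrm hF hs]
    apply Subgroup.card_le_of_le
    rintro _ ⟨l, rfl⟩
    change σ ((nrm σ l : Fˣ) : F) = ((nrm σ l : Fˣ) : F)
    rw [nrm_val, map_mul, sig, mul_comm]

omit hσ in
theorem card_Kf (hF : Fintype.card F = q ^ 2) (hs : ∀ x, σ x = x ^ q) : Nat.card (Kf σ) = q := by
  rw [← card_fixd hF hs]
  rfl

omit hσ in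
theorem card_range_jh (hF : Fintype.card F = q ^ 2) (hs : ∀ x, σ x = x ^ q) :
    Nat.card (jh hδ h0).range = q * (q ^ 2 - 1) := by
  have h1 : Nat.card (jh hδ h0).range = Nat.card (Matrix.SpecialLinearGroup (Fin 2) (Kf σ)) :=
    (Nat.card_congr (MonoidHom.ofInjective (jh_injective hδ h0)).toEquiv).symm
  let _ : Fintype (Kf σ) := Fintype.ofFinite _
  rw [h1, ClassicalGeometry.PSL2Basic.card_SL2, ← Nat.card_eq_fintype_card, card_Kf hF hs]

theorem orbit_L (hF : Fintype.card F = q ^ 2) (hs : ∀ x, σ x = x ^ q) :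
    {x : SUG σ ⧸ borel σ | ∃ m ∈ (jh hδ h0).range, m • x0 σ = x}.ncard = q + 1 := by
  have hq : 2 ≤ q := LieClassical.HermBasic.two_le hF
  have h1 := orbit_card (jh hδ h0).range
  obtain ⟨E, hE, hEc, hEl⟩ := card_inf_borel hδ h0 (jh hδ h0).range le_rfl
  have hE' : E = FU σ := le_antisymm hE (fun l hl => hEl l hl (tor_mem_range hδ h0 hl))
  have hZ : Nat.card ((jh hδ h0).range ⊓ ZU σ : Subgroup (SUG σ)) = q := by
    rw [inf_eq_right.2 (ZU_le_range hδ h0)]
    have h2 := card_inf_ZU (⊤ : Subgroup (SUG σ))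
    rw [top_inf_eq] at h2
    rw [h2, ← card_anti' (σ := σ) hF hs]
    congr 1
    have h3 : ZR (⊤ : Subgroup (SUG σ)) = anti σ := by
      apply le_antisymm (ZR_le _)
      intro b hb
      have hb' : b + σ b = 0 := hb
      exact ⟨⟨0, b, by rw [hb', zero_mul]⟩, Subgroup.mem_top _, rfl, rfl⟩
    rw [h3]
  rw [hEc, hZ, hE', card_FU hF hs, card_range_jh hδ h0 hF hs, Arith.sq_sub] at h1
  have h2 : 0 < q * (q - 1) := Nat.mul_pos (by omega) (by omega)
  refine Nat.eq_of_mul_eq_mul_right h2 ?_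
  rw [h1]
  ring

/-- **the order of `H ∩ L`** -/
theorem card_HL (hF : Fintype.card F = q ^ 2) (hs : ∀ x, σ x = x ^ q) (H : Subgroup (SUG σ))
    (hHB : ∀ g : SUG σ, ∃ h ∈ H, ∃ b ∈ borel σ, g = h * b) (hz : Nat.card (ZR H) ≠ 1) :
    ∃ E : Subgroup Fˣ, E ≤ FU σ ∧
      Nat.card (H ⊓ (jh hδ h0).range : Subgroup (SUG σ)) = (q + 1) * (Nat.card (ZR H) * Nat.card E) ∧
      ∀ l ∈ FU σ, tor σ l ∈ H ⊓ (jh hδ h0).range → l ∈ E := by
  obtain ⟨E, hE, hEc, hEl⟩ := card_inf_borel hδ h0 (H ⊓ (jh hδ h0).range) inf_le_right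
  refine ⟨E, hE, ?_, hEl⟩
  have h1 := orbit_card (H ⊓ (jh hδ h0).range)
  have h2 : {x : SUG σ ⧸ borel σ | ∃ m ∈ H ⊓ (jh hδ h0).range, m • x0 σ = x} =
      {x : SUG σ ⧸ borel σ | ∃ m ∈ (jh hδ h0).range, m • x0 σ = x} := by
    ext x
    constructor
    · rintro ⟨m, hm, h⟩
      exact ⟨m, hm.2, h⟩
    · rintro ⟨g, hg, rfl⟩
      exact trans hδ h0 H hHB hz hg
  have h3 : H ⊓ (jh hδ h0).range ⊓ ZU σ = H ⊓ ZU σ := by
    rw [inf_assoc, inf_eq_right.2 (ZU_le_range hδ h0)]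
  rw [h2, orbit_L hδ h0 hF hs, hEc, h3, card_inf_ZU] at h1
  exact h1.symm

/-- **`1 < z < q` implies `z = 2` or `q = 9`, `z = 3`** -/
theorem case_E (hF : Fintype.card F = q ^ 2) (hs : ∀ x, σ x = x ^ q) (H : Subgroup (SUG σ))
    (hHB : ∀ g : SUG σ, ∃ h ∈ H, ∃ b ∈ borel σ, g = h * b) (hz : Nat.card (ZR H) ≠ 1)
    (hzq : Nat.card (ZR H) ≠ q) : Nat.card (ZR H) = 2 ∨ (q = 9 ∧ Nat.card (ZR H) = 3) := by
  have hq : 2 ≤ q := LieClassical.HermBasic.two_le hF
  obtain ⟨δ, h0, hδ⟩ := LieClassical.HermBasic.exists_trace_zero_ne hF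
  have hδ : σ δ = -δ := by
    rw [← hs] at hδ
    linear_combination hδ
  obtain ⟨E, hE, hEc, hEl⟩ := card_HL hδ h0 hF hs H hHB hz
  let _ : Fintype (Kf σ) := Fintype.ofFinite _
  have hK : Fintype.card (Kf σ) = q := by rw [← Nat.card_eq_fintype_card, card_Kf hF hs]
  obtain ⟨p, hp⟩ := CharP.exists (Kf σ)
  have : Fact p.Prime := ⟨CharP.char_is_prime (Kf σ) p⟩
  let S : Subgroup (Matrix.SpecialLinearGroup (Fin 2) (Kf σ)) := H.comap (jh hδ h0)
  have hS : Nat.card S = (q + 1) * (Nat.card (ZR H) * Nat.card E) := by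
    rw [← hEc]
    have h1 : S.map (jh hδ h0) = H ⊓ (jh hδ h0).range := by
      rw [Subgroup.map_comap_eq, inf_comm]
    rw [← h1, Subgroup.card_map_of_injective (jh_injective hδ h0)]
  let π := QuotientGroup.mk' (Subgroup.center (Matrix.SpecialLinearGroup (Fin 2) (Kf σ)))
  have hD := card_map_mul π S
  have hker : π.ker = Subgroup.center (Matrix.SpecialLinearGroup (Fin 2) (Kf σ)) :=
    QuotientGroup.ker_mk' _
  rw [hker] at hD
  have hz0 : 0 < Nat.card (ZR H) := Nat.card_pos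
  have hzd := card_ZR_dvd hF hs H
  have hzle := Nat.le_of_dvd (by omega) hzd
  have hEd : Nat.card E ∣ q - 1 := by
    rw [← card_FU hF hs]
    exact Subgroup.card_dvd_of_le hE
  obtain ⟨e, hDe, he⟩ : ∃ e, Nat.card (S.map π) = (q + 1) * Nat.card (ZR H) * e ∧ e ∣ q - 1 := by
    have h2 : Nat.card (S ⊓ Subgroup.center (Matrix.SpecialLinearGroup (Fin 2) (Kf σ)) : Subgroup _) ∣
        Nat.card (Subgroup.center (Matrix.SpecialLinearGroup (Fin 2) (Kf σ))) :=
      Subgroup.card_dvd_of_le inf_le_right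
    by_cases h22 : (2 : Kf σ) = 0
    · rw [ClassicalGeometry.PSL2Basic.card_center_SL2_even h22] at h2
      rw [Nat.dvd_one.1 h2, mul_one] at hD
      exact ⟨Nat.card E, by rw [hD, hS]; ring, hEd⟩
    · rw [ClassicalGeometry.PSL2Basic.card_center_SL2_odd h22] at h2
      rcases (Nat.dvd_prime Nat.prime_two).1 h2 with h3 | h3
      · rw [h3, mul_one] at hD
        exact ⟨Nat.card E, by rw [hD, hS]; ring, hEd⟩
      · have h4 : S ⊓ Subgroup.center (Matrix.SpecialLinearGroup (Fin 2) (Kf σ)) =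
            Subgroup.center (Matrix.SpecialLinearGroup (Fin 2) (Kf σ)) := by
          apply Subgroup.eq_of_le_of_card_ge inf_le_right
          rw [h3, ClassicalGeometry.PSL2Basic.card_center_SL2_odd h22]
        have h5 : (-1 : Matrix.SpecialLinearGroup (Fin 2) (Kf σ)) ∈ S := by
          have h6 : (-1 : Matrix.SpecialLinearGroup (Fin 2) (Kf σ)) ∈
              S ⊓ Subgroup.center (Matrix.SpecialLinearGroup (Fin 2) (Kf σ)) := by
            rw [h4, ClassicalGeometry.PSL2Basic.mem_center_SL2_iff]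
            exact Or.inr rfl
          exact h6.1
        have h6 : tor σ (-1) ∈ H ⊓ (jh hδ h0).range := by
          rw [← jh_neg_one hδ h0]
          exact ⟨h5, _, rfl⟩
        have h7 : (-1 : Fˣ) ∈ E := hEl _ (by change σ ((-1 : Fˣ) : F) = _; simp) h6
        have h8 : orderOf (⟨-1, h7⟩ : E) = 2 := by
          apply orderOf_eq_prime
          · apply Subtype.ext
            simp
          · intro h9
            have h10 : (-1 : Fˣ) = 1 := congrArg Subtype.val h9
            apply h22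
            have h11 : (-1 : F) = 1 := by simpa using congrArg Units.val h10
            apply Subtype.ext
            change (2 : F) = 0
            linear_combination -h11
        have h9 : 2 ∣ Nat.card E := by
          rw [← h8]
          exact orderOf_dvd_natCard _
        obtain ⟨e, he⟩ := h9
        refine ⟨e, ?_, (Dvd.intro_left 2 he.symm).trans hEd⟩
        rw [h3, hS, he] at hD
        have : Nat.card (S.map π) * 2 = (q + 1) * Nat.card (ZR H) * e * 2 := by rw [hD]; ring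
        exact Nat.eq_of_mul_eq_mul_right (by norm_num) this
  exact Dick.num_E hK p (S.map π) hDe hzd (by omega) (by omega) he

end Fin

end Cfsg.Agent.H212.U3.CaseE
end
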